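import Cfsg.Agent.H669.PermFix
import Cfsg.Agent.Blocks.Basic
import Cfsg.Agent.H634.ClassEq

/-!
# The fixed point free lemma (helper40, after helper669)

`V ≤ G` of order prime to `p`, `Q ≤ N(V)` a `p`-group with `C_V(Q) = 1`, `χ` a character of `G` without `V`-fixed
vectors: then `p` divides `χ(1)`; in general `χ(1)` is congruent modulo `p` to the multiplicity of the trivial
character in the restriction to `V`.
-/

set_option autoImplicit false

namespace Cfsg.Agent.H40.Fpf

open Cfsg Cfsg.Agent.Characters.Core Cfsg.Agent.H669.PermFix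
open scoped ComplexConjugate

variable {G : Type*} [Group G]

/-- The action of `Q` on `V` by conjugation. -/
def act (Q V : Subgroup G) (hn : ∀ h ∈ Q, ∀ v ∈ V, h * v * h⁻¹ ∈ V) : Q →* MulAut V where
  toFun h :=
    { toFun := fun v => ⟨h * v * (h : G)⁻¹, hn h h.2 v v.2⟩
      invFun := fun v => ⟨(h : G)⁻¹ * v * h, by
        have := hn (h : G)⁻¹ (inv_mem h.2) v v.2
        rwa [inv_inv] at this⟩
      left_inv := fun v => Subtype.ext (by
        show (h : G)⁻¹ * (h * v * (h : G)⁻¹) * h = v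
        group)
      right_inv := fun v => Subtype.ext (by
        show (h : G) * ((h : G)⁻¹ * v * h) * (h : G)⁻¹ = v
        group)
      map_mul' := fun v w => Subtype.ext (by
        show (h : G) * (v * w) * (h : G)⁻¹ = (h * v * (h : G)⁻¹) * (h * w * (h : G)⁻¹)
        group) }
  map_one' := by
    ext v
    show (1 : G) * v * (1 : G)⁻¹ = v
    group
  map_mul' a b := by
    ext v
    show ((a : G) * b) * v * ((a : G) * b)⁻¹ = a * (b * v * (b : G)⁻¹) * (a : G)⁻¹
    group

theorem coe_act (Q V : Subgroup G) (hn : ∀ h ∈ Q, ∀ v ∈ V, h * v * h⁻¹ ∈ V) (h : Q) (v : V) :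
    ((act Q V hn h v : V) : G) = h * v * (h : G)⁻¹ := rfl

/-- Only the class of `1` is fixed. -/
theorem fixed_class [Finite G] {p : ℕ} [hp : Fact p.Prime] (Q V : Subgroup G) (hQ : IsPGroup p Q)
    (hV : ¬ p ∣ Nat.card V) (hn : ∀ h ∈ Q, ∀ v ∈ V, h * v * h⁻¹ ∈ V)
    (hC : ∀ v ∈ V, (∀ h ∈ Q, h * v = v * h) → v = 1) (C : ConjClasses V)
    (hfix : ∀ a : Q, (clsAct (act Q V hn)).smul a C = C) : C = ConjClasses.mk 1 := by
  classical
  have hst : ∀ (a : Q) (v : V), v ∈ C.carrier → act Q V hn a v ∈ C.carrier := by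
    intro a v hv
    rw [ConjClasses.mem_carrier_iff_mk_eq] at hv ⊢
    have h1 := hfix a
    rw [← hv] at h1
    rw [clsAct_mk] at h1
    rw [h1, hv]
  let _ : MulAction Q C.carrier :=
    { smul := fun a v => ⟨act Q V hn a v, hst a v v.2⟩
      one_smul := fun v => Subtype.ext (by
        show act Q V hn 1 (v : V) = v
        rw [map_one]; rfl)
      mul_smul := fun a b v => Subtype.ext (by
        show act Q V hn (a * b) (v : V) = act Q V hn a (act Q V hn b v)
        rw [map_mul]; rfl) }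
  have h2 : ¬ p ∣ Nat.card C.carrier := fun h => hV (h.trans (H634.ClassEq.card_carrier_dvd C).1)
  obtain ⟨v, hv⟩ := hQ.nonempty_fixed_point_of_prime_not_dvd_card (α := C.carrier) h2
  have h3 : ((v : V) : G) = 1 := by
    refine hC _ (v : V).2 fun h hh => ?_
    have h4 := congrArg (fun z : C.carrier => (((z : V)) : G)) (hv ⟨h, hh⟩)
    change h * ((v : V) : G) * h⁻¹ = ((v : V) : G) at h4
    calc h * ((v : V) : G) = (h * ((v : V) : G) * h⁻¹) * h := by group
      _ = ((v : V) : G) * h := by rw [h4]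
  have h4 : (v : V) = 1 := Subtype.ext h3
  have h5 := v.2
  rw [ConjClasses.mem_carrier_iff_mk_eq, h4] at h5
  exact h5.symm

/-- **The fixed point free lemma.** -/
theorem modEq [Finite G] {p : ℕ} [hp : Fact p.Prime] (Q V : Subgroup G) (hQ : IsPGroup p Q)
    (hV : ¬ p ∣ Nat.card V) (hn : ∀ h ∈ Q, ∀ v ∈ V, h * v * h⁻¹ ∈ V)
    (hC : ∀ v ∈ V, (∀ h ∈ Q, h * v = v * h) → v = 1) [Fintype V] {χ : G → ℂ} (hχ : IsCharacter G χ)
    {d m : ℕ} (hd : χ 1 = d) (hm : ∑ v : V, χ v = (Nat.card V : ℂ) * m) :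
    d ≡ m [MOD p] := by
  classical
  have := finite_irr (G := V)
  have := Fintype.ofFinite (IrrCharacter V)
  have hcV : (Nat.card V : ℂ) ≠ 0 := card_ne_zero_complex
  have hres : IsCharacter V (fun v : V => χ v) := isCharacter_comp V.subtype hχ
  choose μ hμ using fun θ : IrrCharacter V => classInner_isNat hres (isIrr_isCharacter θ.2)
  -- the degree
  have hdeg : d = ∑ θ : IrrCharacter V, μ θ * charDegree (θ : V → ℂ) := by
    have h1 := classFunction_eq_sum (G := V) (isCharacter_isClassFunction hres)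
    have h2 := congrFun h1 1
    have h3 : χ ((1 : V) : G) = (d : ℂ) := hd
    rw [h3, Finset.sum_apply] at h2
    have h4 : (d : ℂ) = ((∑ θ : IrrCharacter V, μ θ * charDegree (θ : V → ℂ) : ℕ) : ℂ) := by
      rw [h2]
      push_cast
      refine Finset.sum_congr rfl fun θ _ => ?_
      rw [Pi.smul_apply, smul_eq_mul, hμ θ, Cfsg.Agent.Blocks.Basic.irr_one_eq_charDegree θ.2]
    exact_mod_cast h4
  let _ := irrAct (N := V) (act Q V hn)
  -- invariance
  have hinv : ∀ (a : Q) (θ : IrrCharacter V), μ (a • θ) * charDegree ((a • θ : IrrCharacter V) : V → ℂ) =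
      μ θ * charDegree (θ : V → ℂ) := by
    intro a θ
    have e1 : μ (a • θ) = μ θ := by
      have h1 : classInner (fun v : V => χ v) ((a • θ : IrrCharacter V) : V → ℂ) =
          classInner (fun v : V => χ v) (θ : V → ℂ) := by
        rw [classInner_def, classInner_def]
        congr 1
        refine (Fintype.sum_equiv (act Q V hn a).toEquiv _ _ fun v => ?_).symm
        have h2 : ((a • θ : IrrCharacter V) : V → ℂ) (act Q V hn a v) = (θ : V → ℂ) v := by
          show (θ : V → ℂ) (act Q V hn a⁻¹ (act Q V hn a v)) = _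
          rw [← MulAut.mul_apply, ← map_mul, inv_mul_cancel, map_one, MulAut.one_apply]
        show χ v * conj ((θ : V → ℂ) v) =
          χ ((act Q V hn a v : V) : G) * conj (((a • θ : IrrCharacter V) : V → ℂ) (act Q V hn a v))
        rw [h2, coe_act, isCharacter_isClassFunction hχ]
      rw [hμ, hμ] at h1
      exact_mod_cast h1
    have e2 : charDegree ((a • θ : IrrCharacter V) : V → ℂ) = charDegree (θ : V → ℂ) := by
      unfold charDegree
      have h2 : ((a • θ : IrrCharacter V) : V → ℂ) 1 = (θ : V → ℂ) 1 := by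
        show (θ : V → ℂ) (act Q V hn a⁻¹ 1) = _
        rw [map_one]
      rw [h2]
    rw [e1, e2]
  obtain ⟨c, hc⟩ := Cfsg.Agent.Blocks.OrbitSum.sum_eq_sum_fixed_add_smul (P := Q)
    (Ω := IrrCharacter V) hQ (fun θ => ((μ θ * charDegree (θ : V → ℂ) : ℕ) : ℤ))
    (fun a θ => congrArg (Nat.cast (R := ℤ)) (hinv a θ))
  -- only the trivial character is fixed
  have hcard := card_fixed_eq hQ hV (act Q V hn)
  have hone : Nat.card {C : ConjClasses V // ∀ a : Q, (clsAct (act Q V hn)).smul a C = C} = 1 := by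
    rw [Nat.card_eq_one_iff_unique]
    refine ⟨⟨fun C D => Subtype.ext ?_⟩, ⟨⟨ConjClasses.mk 1, fun a => ?_⟩⟩⟩
    · rw [fixed_class Q V hQ hV hn hC C.1 C.2, fixed_class Q V hQ hV hn hC D.1 D.2]
    · rw [clsAct_mk, map_one]
  rw [hone, Nat.card_eq_one_iff_unique] at hcard
  obtain ⟨⟨hsub⟩, -⟩ := hcard
  let θ₀ : IrrCharacter V := ⟨1, isIrr_one⟩
  have hθ₀ : ∀ a : Q, (irrAct (act Q V hn)).smul a θ₀ = θ₀ := fun a => Subtype.ext rfl
  have hfix : Finset.univ.filter (· ∈ MulAction.fixedPoints Q (IrrCharacter V)) = {θ₀} := by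
    ext θ
    rw [Finset.mem_filter, Finset.mem_singleton, MulAction.mem_fixedPoints]
    constructor
    · rintro ⟨-, h⟩
      exact congrArg Subtype.val (hsub ⟨θ, h⟩ ⟨θ₀, hθ₀⟩)
    · rintro rfl
      exact ⟨Finset.mem_univ _, hθ₀⟩
  rw [hfix, Finset.sum_singleton] at hc
  have hμ0 : μ θ₀ = m := by
    have h1 := hμ θ₀
    rw [classInner_def] at h1
    have h2 : ∑ v : V, χ v * conj ((θ₀ : V → ℂ) v) = ∑ v : V, χ v := by
      refine Finset.sum_congr rfl fun v _ => ?_
      show χ v * conj (1 : ℂ) = _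
      rw [map_one, mul_one]
    rw [h2, hm, ← mul_assoc, inv_mul_cancel₀ hcV, one_mul] at h1
    exact_mod_cast h1.symm
  have hdeg0 : charDegree (θ₀ : V → ℂ) = 1 := by
    have h1 := Cfsg.Agent.Blocks.Basic.irr_one_eq_charDegree θ₀.2
    have h2 : (θ₀ : V → ℂ) 1 = 1 := rfl
    rw [h2] at h1
    exact_mod_cast h1.symm
  rw [hμ0, hdeg0, mul_one, ← Nat.cast_sum, ← hdeg, nsmul_eq_mul] at hc
  rw [← Int.natCast_modEq_iff, hc]
  exact Int.modEq_iff_dvd.2 ⟨-c, by ring⟩

/-- A character without `V`-fixed vectors has degree divisible by `p`. -/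
theorem dvd_degree [Finite G] {p : ℕ} [hp : Fact p.Prime] (Q V : Subgroup G) (hQ : IsPGroup p Q)
    (hV : ¬ p ∣ Nat.card V) (hn : ∀ h ∈ Q, ∀ v ∈ V, h * v * h⁻¹ ∈ V)
    (hC : ∀ v ∈ V, (∀ h ∈ Q, h * v = v * h) → v = 1) [Fintype V] {χ : G → ℂ} (hχ : IsIrrCharacter G χ)
    (h0 : ∑ v : V, χ v = 0) : p ∣ charDegree χ := by
  have h1 := modEq Q V hQ hV hn hC (isIrr_isCharacter hχ) (d := charDegree χ) (m := 0)
    (Cfsg.Agent.Blocks.Basic.irr_one_eq_charDegree hχ) (by rw [h0, Nat.cast_zero, mul_zero])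
  exact (Nat.modEq_zero_iff_dvd).1 h1

end Cfsg.Agent.H40.Fpf
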