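import Cfsg.Agent.H710.Cuspidal
import Cfsg.Agent.H686.CharKit
import Cfsg.Agent.CharactersDeep.IndFun

/-!
# Characters without fixed vectors: the abstract count (helper40)

`G` finite, `V ≤ U`, `V` normalised by `P`, `ψ` a linear character of `U`.

* `degree_le` : an irreducible character with `V`-fixed vectors of multiplicity `m` has degree at most `|G : P| m`;
* `sum_pair` : the bilinear count over the irreducible characters;
* `exists_no_fixed` : the existence of an irreducible character without `V`-fixed vectors.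
-/

set_option autoImplicit false
set_option linter.unusedSectionVars false

namespace Cfsg.Agent.H40.GG

open Cfsg Cfsg.Agent.Characters.Core Cfsg.Agent.Characters.DegreeBounds Module
open Cfsg.Agent.H710.Cuspidal
open scoped ComplexConjugate

variable {G : Type*} [Group G]

section rep

variable {V : Type*} [AddCommGroup V] [Module ℂ V] [FiniteDimensional ℂ V]
  (ρ : Representation ℂ G V)

/-- the dimension of the space of fixed vectors -/
theorem finrank_range_Z (U : Subgroup G) [Fintype U] {m : ℕ}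
    (hm : ∑ u : U, ρ.character u = (Nat.card U : ℂ) * m) :
    finrank ℂ (LinearMap.range (Z ρ U)) = m := by
  have hc : (Nat.card U : ℂ) ≠ 0 := card_ne_zero_complex
  set P : Module.End ℂ V := (Nat.card U : ℂ)⁻¹ • Z ρ U with hP
  have h1 : P * P = P := by
    rw [hP, smul_mul_smul_comm, Z_mul_Z, smul_smul]
    congr 1
    field_simp
  have h2 : LinearMap.trace ℂ V P = m := by
    rw [hP, map_smul, Z, map_sum]
    have : ∑ u : U, LinearMap.trace ℂ V (ρ u) = (Nat.card U : ℂ) * m := hm
    rw [this, smul_eq_mul, ← mul_assoc, inv_mul_cancel₀ hc, one_mul]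
  have h3 : IsIdempotentElem P := h1
  have h4 := LinearMap.IsProj.trace (LinearMap.IsIdempotentElem.isProj_range P h3)
  rw [h2] at h4
  have h5 : finrank ℂ (LinearMap.range P) = m := by exact_mod_cast h4.symm
  have h6 : LinearMap.range P = LinearMap.range (Z ρ U) := by
    rw [hP]
    apply le_antisymm
    · rintro _ ⟨x, rfl⟩
      exact ⟨(Nat.card U : ℂ)⁻¹ • x, by rw [map_smul]; rfl⟩
    · rintro _ ⟨x, rfl⟩
      refine ⟨(Nat.card U : ℂ) • x, ?_⟩
      rw [LinearMap.smul_apply, map_smul, smul_smul, inv_mul_cancel₀ hc, one_smul]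
  rw [← h6]
  exact h5

/-- The degree of an irreducible representation is at most the index times the dimension of a stable subspace. -/
theorem finrank_le_index_mul [Finite G] [ρ.IsIrreducible] (P : Subgroup G) (E : Submodule ℂ V)
    (hE : ∀ h ∈ P, ∀ v ∈ E, ρ h v ∈ E) (h0 : E ≠ ⊥) :
    finrank ℂ V ≤ P.index * finrank ℂ E := by
  classical
  have : Fintype (G ⧸ P) := Fintype.ofFinite _
  let b : G ⧸ P → Submodule ℂ V := fun q => E.map (ρ q.out)
  have hb : ∀ g : G, E.map (ρ g) ≤ b (g : G ⧸ P) := by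
    intro g
    have hmem : ((g : G ⧸ P).out)⁻¹ * g ∈ P := by
      rw [← QuotientGroup.eq]
      exact (g : G ⧸ P).out_eq
    rintro _ ⟨v, hv, rfl⟩
    refine ⟨ρ (((g : G ⧸ P).out)⁻¹ * g) v, hE _ hmem v hv, ?_⟩
    rw [← Module.End.mul_apply, ← map_mul, mul_inv_cancel_left]
  have hU : (⨆ q, b q) = ⊤ := by
    apply eq_top_of_stable ρ
    · intro g u hu
      have h1 : (⨆ q, b q).map (ρ g) ≤ ⨆ q, b q := by
        rw [Submodule.map_iSup]
        refine iSup_le fun q => ?_
        have h2 : (b q).map (ρ g) = E.map (ρ (g * q.out)) := by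
          simp only [b]
          rw [← Submodule.map_comp]
          congr 1
          rw [map_mul]
          rfl
        rw [h2]
        exact (hb _).trans (le_iSup b _)
      exact h1 ⟨u, hu, rfl⟩
    · intro h
      apply h0
      rw [eq_bot_iff]
      have h1 := (hb 1).trans (le_iSup b _)
      rw [h, map_one] at h1
      intro v hv
      exact h1 ⟨v, hv, rfl⟩
  rw [← finrank_top ℂ V, ← hU]
  have h2 : ∀ s : Finset (G ⧸ P), finrank ℂ (⨆ q ∈ s, b q : Submodule ℂ V) ≤ s.card * finrank ℂ E := by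
    intro s
    induction s using Finset.induction_on with
    | empty => simp
    | insert a s ha ih =>
      rw [Finset.iSup_insert, Finset.card_insert_of_notMem ha, add_mul, one_mul, add_comm]
      have h3 : finrank ℂ (b a) ≤ finrank ℂ E := Submodule.finrank_map_le _ _
      have h4 := Submodule.finrank_add_le_finrank_add_finrank (b a) (⨆ q ∈ s, b q)
      omega
  have h5 := h2 Finset.univ
  have h6 : (⨆ q ∈ (Finset.univ : Finset (G ⧸ P)), b q) = ⨆ q, b q := by simp
  rw [h6, Finset.card_univ, ← Nat.card_eq_fintype_card] at h5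
  exact h5

end rep

variable [Finite G]

theorem degree_le (P V : Subgroup G) [Fintype V] (hn : ∀ h ∈ P, ∀ v ∈ V, h * v * h⁻¹ ∈ V) {χ : G → ℂ}
    (hχ : IsIrrCharacter G χ) {d m : ℕ} (hd : χ 1 = d) (hm : ∑ v : V, χ v = (Nat.card V : ℂ) * m) (hm0 : m ≠ 0) :
    d ≤ P.index * m := by
  obtain ⟨n, ρ, hρ, rfl⟩ := hχ
  have hnorm : ∀ h ∈ P, ∀ u, u ∈ V ↔ h * u * h⁻¹ ∈ V := by
    intro h hh u
    refine ⟨hn h hh u, fun h1 => ?_⟩
    have := hn h⁻¹ (P.inv_mem hh) _ h1
    have h2 : h⁻¹ * (h * u * h⁻¹) * h⁻¹⁻¹ = u := by group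
    rwa [h2] at this
  have h1 := finrank_range_Z ρ V hm
  have h2 : d = finrank ℂ (Fin n → ℂ) := by
    rw [Representation.char_one] at hd
    exact_mod_cast hd.symm
  have h3 := finrank_le_index_mul ρ P (LinearMap.range (Z ρ V)) (by
    rintro h hh _ ⟨x, rfl⟩
    rw [← Module.End.mul_apply, rho_comm_Z ρ V (hnorm h hh)]
    exact ⟨ρ h x, rfl⟩) (by
    intro h
    rw [h, finrank_bot] at h1
    exact hm0 h1.symm)
  rw [h1, ← h2] at h3
  exact h3

/-- number of elements conjugating `g` to `h` -/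
theorem card_transporter (g h : G) [Decidable (IsConj g h)] :
    (Nat.card {x : G // x⁻¹ * g * x = h} : ℂ) =
      if IsConj g h then (Nat.card (Subgroup.centralizer ({h} : Set G)) : ℂ) else 0 := by
  split_ifs with hc
  · obtain ⟨c, rfl⟩ := isConj_iff.1 hc
    congr 1
    refine Nat.card_congr
      { toFun := fun x => ⟨c * x.1, ?_⟩
        invFun := fun y => ⟨c⁻¹ * y.1, ?_⟩
        left_inv := fun x => Subtype.ext (by simp)
        right_inv := fun y => Subtype.ext (by simp) }
    · rw [Subgroup.mem_centralizer_singleton_iff]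
      have h1 := x.2
      have h2 : g * x.1 = x.1 * (c * g * c⁻¹) := by
        have h3 := congrArg (fun z => x.1 * z) h1
        simp only [← mul_assoc, mul_inv_cancel, one_mul] at h3
        simpa only [mul_assoc] using h3
      calc c * x.1 * (c * g * c⁻¹) = c * (x.1 * (c * g * c⁻¹)) := by group
        _ = c * (g * x.1) := by rw [h2]
        _ = c * g * c⁻¹ * (c * x.1) := by group
    · have h1 := y.2
      rw [Subgroup.mem_centralizer_singleton_iff] at h1
      calc (c⁻¹ * y.1)⁻¹ * g * (c⁻¹ * y.1) = y.1⁻¹ * (c * g * c⁻¹ * y.1) := by group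
        _ = y.1⁻¹ * (y.1 * (c * g * c⁻¹)) := by rw [h1]
        _ = c * g * c⁻¹ := by group
  · have : IsEmpty {x : G // x⁻¹ * g * x = h} := by
      refine ⟨fun x => hc ?_⟩
      rw [isConj_iff]
      refine ⟨x.1⁻¹, ?_⟩
      have h1 := x.2
      rw [inv_inv]
      exact h1
    rw [Nat.card_of_isEmpty, Nat.cast_zero]

/-- the bilinear count -/
theorem sum_pair [Fintype G] [Fintype (IrrCharacter G)] (a b : G → ℂ) :
    ∑ χ : IrrCharacter G, (∑ u : G, a u * (χ : G → ℂ) u) * (∑ v : G, b v * conj ((χ : G → ℂ) v)) =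
      ∑ x : G, ∑ u : G, a u * b (x⁻¹ * u * x) := by
  classical
  calc ∑ χ : IrrCharacter G, (∑ u : G, a u * (χ : G → ℂ) u) * (∑ v : G, b v * conj ((χ : G → ℂ) v))
      = ∑ χ : IrrCharacter G, ∑ u : G, ∑ v : G, a u * b v * ((χ : G → ℂ) u * conj ((χ : G → ℂ) v)) := by
        refine Finset.sum_congr rfl fun χ _ => ?_
        rw [Finset.sum_mul_sum]
        refine Finset.sum_congr rfl fun u _ => Finset.sum_congr rfl fun v _ => ?_
        ring
    _ = ∑ u : G, ∑ v : G, a u * b v * ∑ χ : IrrCharacter G, ((χ : G → ℂ) u * conj ((χ : G → ℂ) v)) := by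
        rw [Finset.sum_comm]
        refine Finset.sum_congr rfl fun u _ => ?_
        rw [Finset.sum_comm]
        refine Finset.sum_congr rfl fun v _ => ?_
        rw [Finset.mul_sum]
    _ = ∑ u : G, ∑ v : G, a u * b v * (Nat.card {x : G // x⁻¹ * u * x = v} : ℂ) := by
        refine Finset.sum_congr rfl fun u _ => Finset.sum_congr rfl fun v _ => ?_
        rw [card_transporter, H686.CharKit.col_orth]
    _ = ∑ u : G, ∑ v : G, ∑ x : G, if x⁻¹ * u * x = v then a u * b v else 0 := by
        refine Finset.sum_congr rfl fun u _ => Finset.sum_congr rfl fun v _ => ?_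
        rw [← Finset.sum_filter, Finset.sum_const, nsmul_eq_mul, mul_comm]
        congr 2
        rw [Nat.card_eq_fintype_card, Fintype.card_subtype]
    _ = ∑ u : G, ∑ x : G, a u * b (x⁻¹ * u * x) := by
        refine Finset.sum_congr rfl fun u _ => ?_
        rw [Finset.sum_comm]
        refine Finset.sum_congr rfl fun x _ => ?_
        rw [Finset.sum_ite_eq]
        simp
    _ = _ := Finset.sum_comm

/-- the multiplicity of a linear character in the restriction -/
theorem exists_mult_lin (U : Subgroup G) [Fintype U] (ψ : U →* ℂˣ) {χ : G → ℂ} (hχ : IsCharacter G χ) :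
    ∃ m : ℕ, ∑ u : U, ((ψ u)⁻¹ : ℂˣ) * χ u = (Nat.card U : ℂ) * m := by
  have h1 : IsCharacter U (fun u : U => χ u) := isCharacter_comp U.subtype hχ
  have h2 : IsCharacter U (fun u : U => ((ψ u : ℂˣ) : ℂ)) :=
    Cfsg.Agent.Characters.Linear.isCharacter_hom ψ
  obtain ⟨m, hm⟩ := classInner_isNat h1 h2
  refine ⟨m, ?_⟩
  rw [← hm, classInner_def]
  have hc : (Nat.card U : ℂ) ≠ 0 := card_ne_zero_complex
  rw [← mul_assoc, mul_inv_cancel₀ hc, one_mul]
  refine Finset.sum_congr rfl fun u _ => ?_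
  rw [mul_comm]
  congr 1
  rw [← isCharacter_apply_inv h2 u, map_inv]

/-- The sum of a nontrivial linear character of `U` over `U ∩ x V x⁻¹` vanishes. -/
theorem sum_lin_eq_zero (U V : Subgroup G) [Fintype U] (ψ : U →* ℂˣ) (x : G)
    (h : ∃ u : U, x⁻¹ * u * x ∈ V ∧ ψ u ≠ 1) :
    ∑ u : U, (((ψ u)⁻¹ : ℂˣ) : ℂ) * (Set.indicator (V : Set G) (fun _ => (1 : ℂ)) (x⁻¹ * u * x)) = 0 := by
  obtain ⟨t, ht, ht1⟩ := h
  have key : (((ψ t)⁻¹ : ℂˣ) : ℂ) *
      ∑ u : U, (((ψ u)⁻¹ : ℂˣ) : ℂ) * (Set.indicator (V : Set G) (fun _ => (1 : ℂ)) (x⁻¹ * u * x)) =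
      ∑ u : U, (((ψ u)⁻¹ : ℂˣ) : ℂ) * (Set.indicator (V : Set G) (fun _ => (1 : ℂ)) (x⁻¹ * u * x)) := by
    rw [Finset.mul_sum]
    refine Fintype.sum_equiv (Equiv.mulLeft t) _ _ fun u => ?_
    have e : x⁻¹ * ((t * u : U) : G) * x = (x⁻¹ * t * x) * (x⁻¹ * u * x) := by
      rw [Subgroup.coe_mul]; group
    have e2 : x⁻¹ * ((t * u : U) : G) * x ∈ (V : Set G) ↔ x⁻¹ * u * x ∈ (V : Set G) := by
      rw [e]
      exact V.mul_mem_cancel_left ht
    rw [Equiv.coe_mulLeft, ← mul_assoc, map_mul, mul_inv, Units.val_mul]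
    congr 1
    by_cases hu : x⁻¹ * (u : G) * x ∈ (V : Set G)
    · rw [Set.indicator_of_mem hu, Set.indicator_of_mem (e2.2 hu)]
    · rw [Set.indicator_of_notMem hu, Set.indicator_of_notMem (fun h => hu (e2.1 h))]
  by_contra h0
  apply ht1
  have h1 : (((ψ t)⁻¹ : ℂˣ) : ℂ) = 1 := by
    have h2 := mul_right_cancel₀ h0 (key.trans (one_mul _).symm)
    exact h2
  have h2 : (ψ t)⁻¹ = 1 := Units.ext h1
  exact inv_eq_one.1 h2

/-- **Existence of characters without fixed vectors** (abstract form). -/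
theorem exists_no_fixed (p : ℕ) [Fact p.Prime] (U P V : Subgroup G) [Fintype U] [Fintype V]
    (hVU : V ≤ U) (hUP : U ≤ P) (hn : ∀ h ∈ P, ∀ v ∈ V, h * v * h⁻¹ ∈ V)
    (hU : IsPGroup p U) (hidx : ¬ p ∣ U.index) (hV1 : V ≠ ⊥)
    (ψ : U →* ℂˣ) (D : Set G)
    (h1 : ∀ x ∉ D, ∃ u : U, x⁻¹ * u * x ∈ V ∧ ψ u ≠ 1)
    (h2 : ∀ x ∈ D, ∀ u ∈ U, x⁻¹ * u * x ∈ V → u = 1)
    (h3 : Nat.card D ≤ Nat.card P * Nat.card V)
    {s : G → ℂ} (hs : IsIrrCharacter G s) (hs1 : s 1 = Nat.card U) (hs0 : ∀ u ∈ U, u ≠ 1 → s u = 0) :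
    ∃ χ : IrrCharacter G, ∑ v : V, (χ : G → ℂ) v = 0 ∧
      ∑ u : U, (((ψ u)⁻¹ : ℂˣ) : ℂ) * (χ : G → ℂ) u ≠ 0 := by
  classical
  have := Fintype.ofFinite G
  have := finite_irr (G := G)
  have := Fintype.ofFinite (IrrCharacter G)
  by_contra hcon
  push Not at hcon
  have hcU : (Nat.card U : ℂ) ≠ 0 := card_ne_zero_complex
  have hcV : (Nat.card V : ℂ) ≠ 0 := card_ne_zero_complex
  choose m hm using fun χ : IrrCharacter G => exists_mult_lin U ψ (isIrr_isCharacter χ.2)
  choose f hf using fun χ : IrrCharacter G => exists_mult V χ.2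
  set d : IrrCharacter G → ℕ := fun χ => charDegree (χ : G → ℂ) with hd
  have hd1 : ∀ χ : IrrCharacter G, (χ : G → ℂ) 1 = (d χ : ℂ) := fun χ =>
    Cfsg.Agent.Blocks.Basic.irr_one_eq_charDegree χ.2
  -- the function `a`
  let a : G → ℂ := extendByZero U (fun u => (((ψ u)⁻¹ : ℂˣ) : ℂ))
  have ha : ∀ g : G → ℂ, ∑ u : G, a u * g u = ∑ u : U, (((ψ u)⁻¹ : ℂˣ) : ℂ) * g u := fun g =>
    CharactersDeep.IndFun.sum_extendByZero U _ g
  -- the sum of `m d`
  have e1 : Nat.card U * ∑ χ, m χ * d χ = Nat.card G := by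
    have h := sum_pair a (Pi.single (1 : G) (1 : ℂ))
    have hL : ∀ χ : IrrCharacter G, (∑ u : G, a u * (χ : G → ℂ) u) *
        (∑ v : G, (Pi.single (1 : G) (1 : ℂ) : G → ℂ) v * conj ((χ : G → ℂ) v)) =
        (Nat.card U : ℂ) * ((m χ * d χ : ℕ) : ℂ) := by
      intro χ
      rw [ha, hm χ, Finset.sum_eq_single (1 : G), Pi.single_eq_same, one_mul, hd1, Complex.conj_natCast]
      · push_cast; ring
      · intro v _ hv
        rw [Pi.single_eq_of_ne hv, zero_mul]
      · intro h; exact absurd (Finset.mem_univ _) h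
    have hR : ∀ x : G, ∑ u : G, a u * (Pi.single (1 : G) (1 : ℂ) : G → ℂ) (x⁻¹ * u * x) = 1 := by
      intro x
      rw [Finset.sum_eq_single (1 : G)]
      · have : x⁻¹ * 1 * x = 1 := by group
        rw [this, Pi.single_eq_same, mul_one]
        simp only [a]
        rw [extendByZero_of_mem U _ (one_mem U)]
        have : (⟨1, one_mem U⟩ : U) = 1 := rfl
        rw [this, map_one, inv_one, Units.val_one]
      · intro u _ hu
        rw [Pi.single_eq_of_ne, mul_zero]
        intro h
        apply hu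
        have : u = x * (x⁻¹ * u * x) * x⁻¹ := by group
        rw [this, h]; group
      · intro h; exact absurd (Finset.mem_univ _) h
    rw [Finset.sum_congr rfl fun χ _ => hL χ, Finset.sum_congr rfl fun x _ => hR x, ← Finset.mul_sum,
      Finset.sum_const, Finset.card_univ, nsmul_eq_mul, mul_one, ← Nat.card_eq_fintype_card] at h
    exact_mod_cast h
  -- the sum of `m f`
  have e2 : Nat.card U * Nat.card V * ∑ χ, m χ * f χ = Nat.card D := by
    have h := sum_pair a (Set.indicator (V : Set G) (fun _ => (1 : ℂ)))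
    have hind : ∀ g : G → ℂ, ∑ v : G, Set.indicator (V : Set G) (fun _ => (1 : ℂ)) v * g v = ∑ v : V, g v := by
      intro g
      have h4 : Set.indicator (V : Set G) (fun _ => (1 : ℂ)) = extendByZero V (fun _ => (1 : ℂ)) := by
        funext v
        by_cases hv : v ∈ V
        · rw [Set.indicator_of_mem (s := (V : Set G)) hv, extendByZero_of_mem V _ hv]
        · rw [Set.indicator_of_notMem (s := (V : Set G)) hv, extendByZero_of_notMem V _ hv]
      rw [h4, CharactersDeep.IndFun.sum_extendByZero V _ g]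
      exact Finset.sum_congr rfl fun v _ => one_mul _
    have hL : ∀ χ : IrrCharacter G, (∑ u : G, a u * (χ : G → ℂ) u) *
        (∑ v : G, Set.indicator (V : Set G) (fun _ => (1 : ℂ)) v * conj ((χ : G → ℂ) v)) =
        (Nat.card U * Nat.card V : ℂ) * ((m χ * f χ : ℕ) : ℂ) := by
      intro χ
      rw [ha, hm χ, hind (fun v => conj ((χ : G → ℂ) v)), ← map_sum, hf χ, map_mul, Complex.conj_natCast,
        Complex.conj_natCast]
      push_cast; ring
    have hR : ∀ x : G, ∑ u : G, a u * Set.indicator (V : Set G) (fun _ => (1 : ℂ)) (x⁻¹ * u * x) =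
        Set.indicator D (fun _ => (1 : ℂ)) x := by
      intro x
      rw [ha (fun u => Set.indicator (V : Set G) (fun _ => (1 : ℂ)) (x⁻¹ * u * x))]
      by_cases hx : x ∈ D
      · rw [Set.indicator_of_mem hx, Finset.sum_eq_single (1 : U)]
        · have h5 : x⁻¹ * ((1 : U) : G) * x ∈ (V : Set G) := by
            have : x⁻¹ * ((1 : U) : G) * x = 1 := by simp
            rw [this]; exact V.one_mem
          rw [Set.indicator_of_mem h5, map_one, inv_one, Units.val_one, mul_one]
        · intro u _ hu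
          rw [Set.indicator_of_notMem, mul_zero]
          intro h5
          exact hu (Subtype.ext (h2 x hx u u.2 h5))
        · intro h; exact absurd (Finset.mem_univ _) h
      · rw [Set.indicator_of_notMem hx]
        exact sum_lin_eq_zero U V ψ x (h1 x hx)
    rw [Finset.sum_congr rfl fun χ _ => hL χ, Finset.sum_congr rfl fun x _ => hR x, ← Finset.mul_sum] at h
    have h6 : ∑ x : G, Set.indicator D (fun _ => (1 : ℂ)) x = (Nat.card D : ℂ) := by
      rw [Finset.sum_indicator_eq_sum_filter, Finset.sum_const, nsmul_eq_mul, mul_one]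
      congr 1
      rw [Nat.card_eq_fintype_card, Fintype.card_subtype]
    rw [h6] at h
    exact_mod_cast h
  -- the bound for all constituents
  have hle : ∀ χ : IrrCharacter G, m χ * d χ ≤ P.index * (m χ * f χ) := by
    intro χ
    rcases Nat.eq_zero_or_pos (m χ) with h0 | h0
    · rw [h0, zero_mul, zero_mul, mul_zero]
    · have hf0 : f χ ≠ 0 := by
        intro h
        have h4 := hcon χ (by rw [hf χ, h, Nat.cast_zero, mul_zero])
        rw [hm χ] at h4
        rcases mul_eq_zero.1 h4 with h5 | h5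
        · exact hcU h5
        · exact h0.ne' (by exact_mod_cast h5)
      have h4 := degree_le P V hn χ.2 (hd1 χ) (hf χ) hf0
      calc m χ * d χ ≤ m χ * (P.index * f χ) := Nat.mul_le_mul_left _ h4
        _ = _ := by ring
  -- the Steinberg character
  let s' : IrrCharacter G := ⟨s, hs⟩
  have hm1 : m s' = 1 := by
    have h4 := hm s'
    rw [Finset.sum_eq_single (1 : U)] at h4
    · have h5 : (s' : G → ℂ) ((1 : U) : G) = Nat.card U := hs1
      rw [h5, map_one, inv_one, Units.val_one, one_mul] at h4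
      have h6 := mul_left_cancel₀ hcU ((mul_one _).trans h4)
      exact_mod_cast h6.symm
    · intro u _ hu
      have h5 : (s' : G → ℂ) (u : G) = 0 := hs0 u u.2 fun h => hu (Subtype.ext h)
      rw [h5, mul_zero]
    · intro h; exact absurd (Finset.mem_univ _) h
  have hds : d s' = Nat.card U := by
    have h4 := hd1 s'
    have h5 : (s' : G → ℂ) 1 = Nat.card U := hs1
    rw [h5] at h4
    exact_mod_cast h4.symm
  have hfs : Nat.card V * f s' = Nat.card U := by
    have h4 := hf s'
    rw [Finset.sum_eq_single (1 : V)] at h4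
    · have h5 : (s' : G → ℂ) ((1 : V) : G) = Nat.card U := hs1
      rw [h5] at h4
      exact_mod_cast h4.symm
    · intro u _ hu
      exact hs0 u (hVU u.2) fun h => hu (Subtype.ext h)
    · intro h; exact absurd (Finset.mem_univ _) h
  have hPU : ¬ p ∣ P.index := fun h => hidx (h.trans (Subgroup.index_dvd_of_le hUP))
  have hpV : p ∣ Nat.card V := by
    have h4 : IsPGroup p V := hU.to_le hVU
    obtain ⟨k, hk⟩ := (IsPGroup.iff_card (p := p)).1 h4
    rcases Nat.eq_zero_or_pos k with h0 | h0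
    · exfalso
      apply hV1
      rw [h0, pow_zero] at hk
      exact Subgroup.card_eq_one.1 hk
    · rw [hk]
      exact dvd_pow_self p h0.ne'
  have hUpos : 0 < Nat.card U := Nat.card_pos
  have hVpos : 0 < Nat.card V := Nat.card_pos
  have hlt : m s' * d s' < P.index * (m s' * f s') := by
    refine lt_of_le_of_ne (hle s') ?_
    rw [hm1, hds, one_mul, one_mul, ← hfs]
    intro h
    have hfpos : 0 < f s' := by
      rcases Nat.eq_zero_or_pos (f s') with h0 | h0
      · rw [h0, mul_zero] at hfs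
        omega
      · exact h0
    have h4 := Nat.eq_of_mul_eq_mul_right hfpos h
    exact hPU (h4 ▸ hpV)
  have h4 : ∑ χ, m χ * d χ < ∑ χ, P.index * (m χ * f χ) :=
    Finset.sum_lt_sum (fun χ _ => hle χ) ⟨s', Finset.mem_univ _, hlt⟩
  rw [← Finset.mul_sum] at h4
  have e5 : P.index * Nat.card P = Nat.card G := P.index_mul_card
  set A := ∑ χ, m χ * d χ
  set B := ∑ χ, m χ * f χ
  have h5 : Nat.card U * B ≤ Nat.card P := by
    have h6 : Nat.card U * B * Nat.card V ≤ Nat.card P * Nat.card V := by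
      calc Nat.card U * B * Nat.card V = Nat.card U * Nat.card V * B := by ring
        _ = Nat.card D := e2
        _ ≤ _ := h3
    exact Nat.le_of_mul_le_mul_right h6 hVpos
  have h6 : Nat.card G < Nat.card G := by
    calc Nat.card G = Nat.card U * A := e1.symm
      _ < Nat.card U * (P.index * B) := Nat.mul_lt_mul_of_pos_left h4 hUpos
      _ = P.index * (Nat.card U * B) := by ring
      _ ≤ P.index * Nat.card P := Nat.mul_le_mul_left _ h5
      _ = Nat.card G := e5
  exact lt_irrefl _ h6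

end Cfsg.Agent.H40.GG
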