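import Cfsg.Agent.H40.TwoTorusExc
import Cfsg.Agent.H246.Dl.KType
import Cfsg.Agent.H654.Two.F4Row

/-!
# `F₄(q)`, `p` odd, `p ∣ q - 1` (helper40)

* `many_F4` : three characters of degree divisible by `p`, pairwise not conjugate under automorphisms
  (Harish-Chandra types `{3} ⊂ {0, 3} ⊂ {0, 1, 3}`);
* `two_F4_torus`.
-/

set_option autoImplicit false
set_option linter.unusedSectionVars false

namespace Cfsg.Agent.H40.TwoT

open Cfsg.Agent.H53.HC Cfsg.Agent.H53.HC.ExcRows Cfsg.Agent.H53.HC.ExcIM Cfsg.Agent.H35.ExcIdx Cfsg.Lie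
  Cfsg.Agent.Nodes.RGDChev Cfsg.Agent.H246.Dl
open CoxeterSystem Cfsg.Agent.ChevalleyStructure.CoxeterGeom Cfsg.Agent.Tits.Roots Cfsg.Agent.Tits.Core
  Cfsg.Agent.Tits.Exchange Cfsg.Agent.Nodes.Reps Cfsg.Agent.Nodes.BNOf Cfsg.Agent.Nodes.StabComb

universe u

variable {r q l : ℕ} {M : CoxeterMatrix (Fin l)} {A : Fin l → Fin l → ℤ} {h : IsCartan M A} {f : Fin l → ℕ}
  {S : Type*} [Group S] {T : Subgroup S} {n : Fin l → S} {X : (Fin l → ℤ) → Subgroup S}

/-- **Many characters from a chain of sets of nodes**, `p` odd, `p ∣ q_i - 1` for all nodes. -/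
theorem many_exc [Finite S] (hr : r.Prime) {J : Set (Fin l)} (D : ExcData r q h f J T n X) {p : ℕ}
    (hp : p.Prime) (h2 : p ≠ 2) (hpr : p ≠ r) (hM : ∀ i, ∃ j, M i j = 3) (hf : ∀ i, p ∣ f i - 1) {m : ℕ}
    (K : Fin m → Set (Fin l)) (hK : ∀ i, (K i).Nonempty) (hcusp : ∀ i, In h X (K i)) (hne : StrictMono K) :
    Many p S m := by
  have := D.fin
  have : Fact r.Prime := ⟨hr⟩
  have : Fact p.Prime := ⟨hp⟩
  obtain ⟨Q, hQ, hQT, hC⟩ := exists_pgroup D.rgd (tor_exc D hp h2 hM hf)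
  exact many_of_chain D.rgd D.gg hpr Q hQ hQT hC K hK hcusp hne

/-- three types for `F₄` -/
def kF4 : Fin 3 → Set (Fin 4) := ![{3}, {0} ∪ {3}, {1, 0} ∪ {3}]

theorem kF4_mono : StrictMono kF4 := by
  refine Fin.strictMono_iff_lt_succ.2 fun i => ?_
  fin_cases i
  · change ({3} : Set (Fin 4)) ⊂ {0} ∪ {3}
    refine ⟨Set.subset_union_right, fun h => ?_⟩
    have h1 : (0 : Fin 4) ∈ ({3} : Set (Fin 4)) := h (Or.inl rfl)
    have h2 : (0 : Fin 4) = 3 := h1
    exact absurd h2 (by decide)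
  · change ({0} ∪ {3} : Set (Fin 4)) ⊂ {1, 0} ∪ {3}
    refine ⟨Set.union_subset_union_left _ fun x hx => Or.inr hx, fun h => ?_⟩
    have h1 : (1 : Fin 4) ∈ ({0} ∪ {3} : Set (Fin 4)) := h (Or.inl (Or.inl rfl))
    rcases h1 with h2 | h2
    · have h3 : (1 : Fin 4) = 0 := h2
      exact absurd h3 (by decide)
    · have h3 : (1 : Fin 4) = 3 := h2
      exact absurd h3 (by decide)

/-- **`F₄(q)`**, `p` odd, `p ∣ q - 1` : three characters. -/
theorem many_F4 {K : Type u} [Field K] [Fintype K] {r f : ℕ} (hr : r.Prime) (hf : f ≠ 0)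
    (hK : Fintype.card K = r ^ f) [CharP K r] {p : ℕ} (hp : p.Prime) (h2 : p ≠ 2) (hpr : p ≠ r)
    (hd : p ∣ r ^ f - 1) : Many p ↥(chevF4.group K) 3 := by
  have := finite_group (K := K) chevF4
  have D := data_F4_2 hr hf hK
  refine many_exc hr D hp h2 hpr joined_F4 (fun i => hd) kF4 ?_ ?_ kF4_mono
  · intro i
    fin_cases i
    · exact ⟨3, rfl⟩
    · exact ⟨3, Or.inr rfl⟩
    · exact ⟨3, Or.inr rfl⟩
  · have h3 := in_node D 3 2 (by decide +kernel)
    have h0 := in_node D 0 1 (by decide +kernel)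
    have h10 := in_A2 D (k₀ := 1) (k₁ := 0) (by decide +kernel) rfl
    obtain ⟨θ, hθ, -⟩ := h10
    intro i
    fin_cases i
    · exact h3
    · refine In.union D h0 h3 ?_
      rintro i rfl j rfl
      decide +kernel
    · refine In.union D ⟨θ, hθ⟩ h3 ?_
      intro i hi j hj
      have hj' : j = 3 := hj
      subst hj'
      rcases hi with rfl | hi
      · decide +kernel
      · have hi' : i = 0 := hi
        subst hi'
        decide +kernel

/-- the row, three characters -/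
theorem many_F4_torus {S : Type*} [Group S] {K : Type u} [Field K] [Fintype K] (e : S ≃* ↥(chevF4.group K)) {r : ℕ}
    [CharP K r] {p : ℕ} (hp : p.Prime) (hpr : p ≠ r) (h2 : p ≠ 2) (hd : p ∣ Fintype.card K - 1) :
    Many p S 3 := by
  obtain ⟨f, hr, hf⟩ := FiniteField.card K r
  rw [hf] at hd
  exact Many.of_equiv e (many_F4 hr f.ne_zero hf hp h2 hpr hd)

/-- two of many -/
theorem two_of_many {S : Type*} [Group S] {p m : ℕ} (hm : 2 ≤ m) (h : Many p S m) : H596.OneFacts.Two p S := by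
  obtain ⟨χ, h1, h2⟩ := h
  refine ⟨χ ⟨0, by omega⟩, χ ⟨1, by omega⟩, h1 _, h1 _, fun σ => ?_⟩
  exact h2 _ _ (by simp) σ

/-- **The row of `FactTwo`.** -/
theorem two_F4_torus {S : Type*} [Group S] {K : Type u} [Field K] [Fintype K] (e : S ≃* ↥(chevF4.group K)) {r : ℕ}
    [CharP K r] {p : ℕ} (hp : p.Prime) (_hd : p ∣ Nat.card S) (hpr : p ≠ r) (h2 : p ≠ 2)
    (h : p ∣ Fintype.card K - 1) : H596.OneFacts.Two p S :=
  two_of_many (by norm_num) (many_F4_torus e hp hpr h2 h)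

end Cfsg.Agent.H40.TwoT
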