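import Cfsg.Agent.H40.GGRgd
import Cfsg.Agent.H622.Levi.Cusp
import Cfsg.Agent.OddHalf.NI.Mult.Torus

/-!
# Torus elements of order `p` without fixed points on the unipotent group (helper40)

`R : RGD cs h r T n X`.

* `Tor p T X i` : some element of `T` of `p`-power order has no nontrivial fixed points on `X (sr i)`;
* `tor_of_co` : the rank one group of `i` is a quotient of `SL₂(F)`, `s ∈ Fˣ` of `p`-power order, `s² ≠ 1`;
* `tor_node` : `p` odd, `p ∣ q - 1`, `i` simply joined to another node;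
* `exists_pgroup` : if `Tor p T X i` for all `i`, then a Sylow `p`-subgroup `Q` of `T` satisfies `C_U(Q) = 1`;
* `dvd_degree` : then the irreducible characters without nonzero `U`-fixed vectors have degree divisible by `p`.
-/

set_option autoImplicit false
set_option linter.unusedSectionVars false

namespace Cfsg.Agent.H40.TwoT

open CoxeterSystem Cfsg.Agent.ChevalleyStructure.CoxeterGeom Cfsg.Agent.Tits.Roots Cfsg.Agent.Tits.Core
  Cfsg.Agent.Tits.RootComb Cfsg.Agent.Nodes.Comb Cfsg.Agent.Nodes.Reps Cfsg.Agent.Nodes.BNOf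
  Cfsg.Agent.Nodes.StabComb Cfsg.Agent.Nodes.Bruhat Cfsg.Agent.Nodes.SubComb Cfsg.Agent.Nodes.OppDec Cfsg.Agent.FixBN
open Cfsg.Agent.H622.Levi
open Cfsg.Agent.LieRecognition.BNCox (cA)
open Cfsg.Agent.OddHalf.NI.Mult (up lo dg Coord)

variable {I W Y : Type*} [Fintype I] [DecidableEq I] [Group W] [Group Y] {M : CoxeterMatrix I}
  {cs : CoxeterSystem M W} {A : I → I → ℤ} {h : IsCartan M A} {r : ℕ} {T : Subgroup Y} {n : I → Y}
  {X : (I → ℤ) → Subgroup Y}

/-- Some element of `T` of `p`-power order has no nontrivial fixed points on `X (sr i)`. -/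
def Tor (p : ℕ) (T : Subgroup Y) (X : (I → ℤ) → Subgroup Y) (i : I) : Prop :=
  ∃ t ∈ T, (∃ k, t ^ p ^ k = 1) ∧ ∀ u ∈ X (sr i), t * u = u * t → u = 1

/-- Every positive root group: a `p`-subgroup of `T` without common fixed points on the root groups. -/
theorem exists_pgroup [Finite W] [Finite Y] (R : RGD cs h r T n X) {p : ℕ} [hp : Fact p.Prime]
    (hT : ∀ i, Tor p T X i) :
    ∃ Q : Subgroup Y, IsPGroup p Q ∧ Q ≤ T ∧
      ∀ u ∈ RGD.Sup X (RGD.Pos cs h), (∀ q ∈ Q, q * u = u * q) → u = 1 := by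
  classical
  let Q0 : Sylow p T := default
  refine ⟨(Q0 : Subgroup T).map T.subtype, Q0.isPGroup'.map _, Subgroup.map_subtype_le _, ?_⟩
  refine GGR.cent_U R _ (Subgroup.map_subtype_le _) ?_
  rintro x ⟨w, i, rfl⟩ - u hu hq
  obtain ⟨k, hk⟩ := exists_rp cs R.nsys w
  obtain ⟨t, htT, ⟨e, hte⟩, ht⟩ := hT i
  -- a conjugate of `k t k⁻¹` lies in `Q`
  have h1 : k * t * k⁻¹ ∈ T := by
    have := cj_T R hk
    rw [← this]
    exact conj_mem_cj.2 htT
  let g : T := ⟨k * t * k⁻¹, h1⟩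
  have hgp : IsPGroup p (Subgroup.zpowers g) := by
    rw [IsPGroup]
    rintro ⟨_, ⟨m, rfl⟩⟩
    refine ⟨e, ?_⟩
    apply Subtype.ext
    have h2 : g ^ p ^ e = 1 := by
      apply Subtype.ext
      rw [SubgroupClass.coe_pow]
      change (k * t * k⁻¹) ^ p ^ e = 1
      rw [conj_pow, hte]
      group
    change (g ^ m) ^ p ^ e = 1
    rw [← zpow_natCast, ← zpow_mul, mul_comm, zpow_mul, zpow_natCast, h2, one_zpow]
  obtain ⟨Q1, hQ1⟩ := hgp.exists_le_sylow
  obtain ⟨s, hs⟩ := MulAction.exists_smul_eq T Q1 Q0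
  have hmem : (s : Y) * (k * t * k⁻¹) * (s : Y)⁻¹ ∈ (Q0 : Subgroup T).map T.subtype := by
    have h2 : s * g * s⁻¹ ∈ (Q0 : Subgroup T) := by
      rw [← hs]
      change s * g * s⁻¹ ∈ (s • Q1 : Sylow p T)
      rw [Sylow.smul_def]
      exact Subgroup.mem_map.2 ⟨g, hQ1 (Subgroup.mem_zpowers g), by simp [MulAut.conj_apply]⟩
    exact ⟨_, h2, rfl⟩
  have h3 : ((s : Y) * k)⁻¹ * u * ((s : Y) * k) ∈ X (sr i) := by
    have h4 : (s : Y)⁻¹ * u * (s : Y) ∈ X (rep cs h w (sr i)) := by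
      have h5 := R.tor _ ((isRoot_sr cs h i).act w) _ s.2
      have h6 : u ∈ cj (s : Y) (X (rep cs h w (sr i))) := by rw [h5]; exact hu
      exact mem_cj.1 h6
    have h7 := R.conj_mem' hk ((isRoot_sr cs h i).act w) h4
    rw [rep_inv_apply] at h7
    have e1 : ((s : Y) * k)⁻¹ * u * ((s : Y) * k) = k⁻¹ * ((s : Y)⁻¹ * u * (s : Y)) * k := by group
    rwa [e1]
  have h4 := ht _ h3 (by
    have h5 := hq _ hmem
    calc t * (((s : Y) * k)⁻¹ * u * ((s : Y) * k))
        = ((s : Y) * k)⁻¹ * (((s : Y) * (k * t * k⁻¹) * (s : Y)⁻¹) * u) * ((s : Y) * k) := by group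
      _ = ((s : Y) * k)⁻¹ * (u * ((s : Y) * (k * t * k⁻¹) * (s : Y)⁻¹)) * ((s : Y) * k) := by rw [h5]
      _ = ((s : Y) * k)⁻¹ * u * ((s : Y) * k) * t := by group)
  have h5 : u = ((s : Y) * k) * (((s : Y) * k)⁻¹ * u * ((s : Y) * k)) * ((s : Y) * k)⁻¹ := by group
  rw [h5, h4]; group

/-- **Support**: the irreducible characters without nonzero `U`-fixed vectors have degree divisible by `p`. -/
theorem dvd_degree [Finite W] [Finite Y] [hr : Fact r.Prime] (R : RGD cs h r T n X) {p : ℕ} [hp : Fact p.Prime]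
    (hpr : p ≠ r) (hT : ∀ i, Tor p T X i) [Fintype ↥(RGD.Sup X (RGD.Pos cs h))] {χ : Y → ℂ}
    (hχ : IsIrrCharacter Y χ) (h0 : ∑ u : ↥(RGD.Sup X (RGD.Pos cs h)), χ u = 0) : p ∣ charDegree χ := by
  obtain ⟨Q, hQ, hQT, hC⟩ := exists_pgroup R hT
  have hU : IsPGroup r ↥(RGD.Sup X (RGD.Pos cs h)) := R.isPGroup_Upos
  have hpV : ¬ p ∣ Nat.card ↥(RGD.Sup X (RGD.Pos cs h)) := by
    intro hd
    obtain ⟨n, hn⟩ := (IsPGroup.iff_card (p := r)).1 hU
    rw [hn] at hd
    exact hpr ((Nat.prime_dvd_prime_iff_eq hp.out hr.out).1 (hp.out.dvd_of_dvd_pow hd))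
  refine Fpf.dvd_degree Q _ hQ hpV ?_ hC hχ h0
  intro x hx v hv
  exact (Subgroup.mem_normalizer_iff.1 (R.T_le_normalizer (S := RGD.Pos cs h) (fun y hy => hy.1) (hQT hx)) v).1 hv

/-- **Rank one groups which are quotients of `SL₂(F)`.** -/
theorem tor_of_co [Finite W] (R : RGD cs h r T n X) {p : ℕ} {i : I} {F : Type} [Field F]
    {φ : Matrix.SpecialLinearGroup (Fin 2) F →* Y} (C : Co X (fun _ : Fin 1 => i) F φ) (s : Fˣ)
    (hs : ∃ k, s ^ p ^ k = 1) (hs2 : s ^ 2 ≠ 1) : Tor p T X i := by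
  let k : Fin 1 ↪ I := ⟨fun _ => i, fun a b _ => Subsingleton.elim a b⟩
  obtain ⟨h', R'⟩ := rgd_levi_of (M' := cA 1) R k (by
    intro a b
    rw [Subsingleton.elim a b, M.diagonal, CoxeterMatrix.diagonal]) (cA 1).toCoxeterSystem
  have hW : Finite (cA 1).Group := finite_Wm (cA 1).toCoxeterSystem h'
  have h01 : (0 : Fin 2) ≠ 1 := by decide
  have h10 : (1 : Fin 2) ≠ 0 := by decide
  have hup : ∀ a : F, Matrix.SpecialLinearGroup.transvection h01 a = up a := by
    intro a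
    apply Subtype.ext
    ext x y
    fin_cases x <;> fin_cases y <;> simp [up, Matrix.SpecialLinearGroup.transvection, Matrix.transvection]
  have hlo : ∀ a : F, Matrix.SpecialLinearGroup.transvection h10 a = lo a := by
    intro a
    apply Subtype.ext
    ext x y
    fin_cases x <;> fin_cases y <;> simp [lo, Matrix.SpecialLinearGroup.transvection, Matrix.transvection]
  have e1 : (X (sr i) : Set Y) = Set.range fun a : F => φ (up a) := by
    have h1 := C.root 0 1 h01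
    have h2 := cr_succ (fun _ : Fin 1 => i) 0
    change cr (fun _ : Fin 1 => i) 0 1 = sr i at h2
    rw [h2] at h1
    rw [h1]
    simp only [hup]
  have e2 : (X (-sr i) : Set Y) = Set.range fun a : F => φ (lo a) := by
    have h1 := C.root 1 0 h10
    have h2 := cr_succ (fun _ : Fin 1 => i) 0
    change cr (fun _ : Fin 1 => i) 0 1 = sr i at h2
    rw [← cr_neg, h2] at h1
    rw [h1]
    simp only [hlo]
  have hC : Coord (fun c : Fin 1 → ℤ => X (iota (fun j => sr (k j)) c)) (fun _ : Fin 1 => F) (fun _ => φ) := by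
    refine ⟨fun j => ?_, fun j => ?_⟩
    · simp only [iota_sr]
      exact e1
    · simp only [map_neg, iota_sr]
      exact e2
  have hdg : φ (dg s) ∈ T := Cfsg.Agent.OddHalf.NI.Mult.dg_mem_T R' hC 0 s
  refine ⟨φ (dg s), hdg, ?_, ?_⟩
  · obtain ⟨e, he⟩ := hs
    refine ⟨e, ?_⟩
    have h1 : ∀ m : ℕ, dg s ^ m = dg (s ^ m) := by
      intro m
      induction m with
      | zero => rw [pow_zero, pow_zero, Cfsg.Agent.OddHalf.NI.Mult.dg_one]
      | succ m ih => rw [pow_succ, ih, pow_succ, Cfsg.Agent.OddHalf.NI.Mult.dg_mul]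
    rw [← map_pow, h1, he, Cfsg.Agent.OddHalf.NI.Mult.dg_one, map_one]
  · intro u hu hcomm
    have hu' : u ∈ (X (sr i) : Set Y) := hu
    rw [e1] at hu'
    obtain ⟨a, rfl⟩ := hu'
    change φ (up a) = 1
    change φ (dg s) * φ (up a) = φ (up a) * φ (dg s) at hcomm
    have h1 : φ (up ((s : F) ^ 2 * a + -a)) = 1 := by
      rw [Cfsg.Agent.OddHalf.NI.Mult.up_add, Cfsg.Agent.OddHalf.NI.Mult.up_neg, ← Cfsg.Agent.OddHalf.NI.Mult.dg_mul_up,
        map_mul, map_mul, map_mul, map_inv, map_inv, hcomm]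
      group
    have h2 : up ((s : F) ^ 2 * a + -a) = 1 := by
      have h3 := C.ker (MonoidHom.mem_ker.2 h1)
      rw [← hup] at h3 ⊢
      exact UU_inf_center (i := (0 : Fin 1)) (transvection_mem_UU h01 (by decide) _) h3
    have h3 : (s : F) ^ 2 * a + -a = 0 := by
      have h4 := congrFun (congrFun (congrArg Subtype.val h2) 0) 1
      simpa [up] using h4
    have h4 : ((s : F) ^ 2 - 1) * a = 0 := by linear_combination h3
    rcases mul_eq_zero.1 h4 with h5 | h5
    · exfalso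
      apply hs2
      apply Units.ext
      rw [Units.val_pow_eq_pow_val, Units.val_one]
      exact sub_eq_zero.1 h5
    · rw [h5, Cfsg.Agent.OddHalf.NI.Mult.up_zero, map_one]

/-- `p` odd, `p ∣ |F| - 1`. -/
theorem exists_unit {F : Type} [Field F] [Finite F] {p : ℕ} (hp : p.Prime) (h2 : p ≠ 2) (hd : p ∣ Nat.card F - 1) :
    ∃ s : Fˣ, (∃ k, s ^ p ^ k = 1) ∧ s ^ 2 ≠ 1 := by
  classical
  have := Fintype.ofFinite F
  have : Fact p.Prime := ⟨hp⟩
  have hc : p ∣ Fintype.card Fˣ := by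
    rw [Fintype.card_units, ← Nat.card_eq_fintype_card]
    exact hd
  obtain ⟨s, hs⟩ := exists_prime_orderOf_dvd_card p hc
  refine ⟨s, ⟨1, ?_⟩, fun h1 => ?_⟩
  · rw [pow_one, ← hs, pow_orderOf_eq_one]
  · have h3 := orderOf_dvd_of_pow_eq_one h1
    rw [hs] at h3
    exact h2 ((Nat.prime_dvd_prime_iff_eq hp Nat.prime_two).1 h3)

theorem tor_of_co_odd [Finite W] (R : RGD cs h r T n X) {p : ℕ} (hp : p.Prime) (h2 : p ≠ 2) {i : I} {F : Type}
    [Field F] [Finite F] {φ : Matrix.SpecialLinearGroup (Fin 2) F →* Y} (C : Co X (fun _ : Fin 1 => i) F φ)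
    (hd : p ∣ Nat.card F - 1) : Tor p T X i := by
  obtain ⟨s, hs, hs2⟩ := exists_unit hp h2 hd
  exact tor_of_co R C s hs hs2

/-- **A node simply joined to another node.** -/
theorem tor_node [Finite W] [Finite Y] (R : RGD cs h r T n X) {p : ℕ} (hp : p.Prime) (h2 : p ≠ 2) (i j : I)
    (hij : M i j = 3) (hd : p ∣ Nat.card (X (sr i)) - 1) : Tor p T X i := by
  obtain ⟨F, _, _, φ, C⟩ := exists_co_one R i j hij
  refine tor_of_co_odd R hp h2 C ?_
  have h1 := C.card 0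
  change Nat.card (X (sr i)) = Nat.card F at h1
  rwa [← h1]

end Cfsg.Agent.H40.TwoT
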