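import Cfsg.Agent.H40.TwoTorus
import Cfsg.Agent.H53.HC.ExcRows

/-!
# Torus elements without fixed points: `F₄`, `E₆`, `E₇`, `E₈`, `²E₆` (helper40)

`Tor p T X i` for all nodes, `p` odd, `p ∣ q - 1`; the irreducible characters without nonzero `U`-fixed vectors
have degree divisible by `p`.
-/

set_option autoImplicit false
set_option linter.unusedSectionVars false

namespace Cfsg.Agent.H40.TwoT

open Cfsg.Agent.H53.HC Cfsg.Agent.H35.ExcIdx Cfsg.Agent.Nodes.BNOf Cfsg.Agent.Tits.Roots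
  Cfsg.Agent.ChevalleyStructure.CoxeterGeom Cfsg.Agent.Tits.Core Cfsg.Agent.Tits.RootComb Cfsg.Agent.Nodes.Comb

variable {r q l : ℕ} {M : CoxeterMatrix (Fin l)} {A : Fin l → Fin l → ℤ} {h : IsCartan M A} {f : Fin l → ℕ}
  {S : Type*} [Group S] {T : Subgroup S} {n : Fin l → S} {X : (Fin l → ℤ) → Subgroup S}

/-- every node simply joined to another node, `p ∣ f i - 1` -/
theorem tor_exc [Finite S] {J : Set (Fin l)} (D : ExcData r q h f J T n X) {p : ℕ} (hp : p.Prime) (h2 : p ≠ 2)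
    (hM : ∀ i, ∃ j, M i j = 3) (hf : ∀ i, p ∣ f i - 1) (i : Fin l) : Tor p T X i := by
  have := D.fin
  obtain ⟨j, hij⟩ := hM i
  exact tor_node D.rgd hp h2 i j hij (by rw [D.size]; exact hf i)

/-- **Support for the exceptional rows.** -/
theorem dvd_degree_exc [Finite S] (hr : r.Prime) {J : Set (Fin l)} (D : ExcData r q h f J T n X) {p : ℕ}
    (hp : p.Prime) (h2 : p ≠ 2) (hpr : p ≠ r) (hM : ∀ i, ∃ j, M i j = 3) (hf : ∀ i, p ∣ f i - 1)
    [Fintype ↥(RGD.Sup X (RGD.Pos M.toCoxeterSystem h))] {χ : S → ℂ} (hχ : IsIrrCharacter S χ)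
    (h0 : ∑ u : ↥(RGD.Sup X (RGD.Pos M.toCoxeterSystem h)), χ u = 0) : p ∣ charDegree χ := by
  have := D.fin
  have : Fact r.Prime := ⟨hr⟩
  have : Fact p.Prime := ⟨hp⟩
  exact dvd_degree D.rgd hpr (tor_exc D hp h2 hM hf) hχ h0

theorem joined_F4 : ∀ i : Fin 4, ∃ j, ExcRows.m4 i j = 3 := by decide +kernel
theorem joined_E6 : ∀ i : Fin 6, ∃ j, ExcRows.m6 i j = 3 := by decide +kernel
theorem joined_E7 : ∀ i : Fin 7, ∃ j, ExcRows.m7 i j = 3 := by decide +kernel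
theorem joined_E8 : ∀ i : Fin 8, ∃ j, ExcRows.m8 i j = 3 := by decide +kernel

end Cfsg.Agent.H40.TwoT
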