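import Mathlib
import Cfsg.Prelude.Def_PLocal
import Cfsg.Prelude.Def_ConjugacyFunctors
import Cfsg.Agent.PLocal.ThompsonJA
import Cfsg.Agent.Walter.GlaubermanFusion

/-!
The functor `Q ↦ Z(J(Q))` (`J` generated by the abelian subgroups of largest order) as an isomorphism-invariant
`p`-group functor, and Glauberman's theorem: for `p` odd it controls strong fusion in every finite `Qd(p)`-free group.
-/

set_option autoImplicit false

universe u

namespace Cfsg.Agent.H40.ZJFunctor

open Cfsg Subgroup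
open Cfsg.Agent.Lib.Involves

/-- the functor `Q ↦ Z(J(Q))` -/
def zj (Q : Type u) [Group Q] : Subgroup Q := centerThompsonAOf (⊤ : Subgroup Q)

theorem induced_zj {G : Type u} [Group G] (P : Subgroup G) :
    inducedFunctor (G := G) @zj.{u} P = centerThompsonAOf P := by
  change (zj ↥P).map P.subtype = _
  unfold zj
  rw [PLocal.ThompsonJA.map_centerThompsonAOf _ P.subtype_injective, ← MonoidHom.range_eq_map, range_subtype]

theorem isCharPFunctor_zj (p : ℕ) [Fact p.Prime] : IsCharPFunctor.{u} p @zj.{u} := by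
  refine ⟨?_, ?_⟩
  · intro Q _ _ hQ hnt
    have h1 : IsPGroup p (⊤ : Subgroup Q) := hQ.to_subgroup ⊤
    exact PLocal.ThompsonJA.centerThompsonAOf_ne_bot _ h1 top_ne_bot
  · intro Q R _ _ _ _ φ
    change (centerThompsonAOf (⊤ : Subgroup Q)).map φ.toMonoidHom = centerThompsonAOf (⊤ : Subgroup R)
    rw [PLocal.ThompsonJA.map_centerThompsonAOf _ φ.injective, ← MonoidHom.range_eq_map,
      MonoidHom.range_eq_top.mpr φ.surjective]

/-- **Glauberman: `ZJ` controls strong fusion, family form.** -/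
theorem family_zj {X : Type u} [Group X] [Finite X] {p : ℕ} [Fact p.Prime] (hp : p ≠ 2)
    (hfree : ¬ Involves X ↥(Cfsg.qd p)) :
    FamilyControlsStrongFusionIn p
      ((fun W => inducedFunctor (G := X) W) '' ({@zj.{u}} : Set (∀ (Q : Type u) [Group Q], Subgroup Q))) ⊤ := by
  obtain ⟨P⟩ : Nonempty (Sylow p X) := inferInstance
  refine ⟨P, le_top, P.isPGroup', ?_, ?_⟩
  · rw [Subgroup.relIndex_top_right]
    exact P.not_dvd_index
  intro A h _ hA hAh
  have h1 : closure A ≤ (P : Subgroup X) := (closure_le _).mpr hA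
  have h2 : (closure A).map (MulAut.conj h).toMonoidHom ≤ (P : Subgroup X) := by
    rw [MonoidHom.map_closure, closure_le]
    exact hAh
  obtain ⟨n, hn, c, hc, hhn⟩ := Walter.GlaubermanFusion.fusion hp hfree P h1 h2
  have hcA : ∀ a ∈ A, c * a * c⁻¹ = a := by
    intro a ha
    have := (mem_centralizer_iff.mp hc) a (subset_closure ha)
    rw [← this]; group
  have hna : ∀ a ∈ A, n * a * n⁻¹ = h * a * h⁻¹ := by
    intro a ha
    rw [hhn]
    calc n * a * n⁻¹ = n * (c * a * c⁻¹) * n⁻¹ := by rw [hcA a ha]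
      _ = _ := by group
  refine ⟨1, ![1, n], rfl, ?_, ?_, ?_⟩
  · intro i
    refine ⟨inducedFunctor (G := X) @zj.{u}, ⟨_, rfl, rfl⟩, ?_⟩
    fin_cases i
    change n * 1⁻¹ ∈ _
    rw [inv_one, mul_one, induced_zj]
    exact ⟨mem_top _, hn⟩
  · intro i
    fin_cases i
    · rintro _ ⟨a, ha, rfl⟩
      change 1 * a * 1⁻¹ ∈ _
      rw [one_mul, inv_one, mul_one]
      exact hA ha
    · rintro _ ⟨a, ha, rfl⟩
      change n * a * n⁻¹ ∈ _
      rw [hna a ha]
      exact hAh ⟨a, ha, rfl⟩
  · intro a ha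
    exact hna a ha

end Cfsg.Agent.H40.ZJFunctor
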